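import Groth.Agent.AlgSpFpqc.Descent
import Groth.Agent.AlgSpLib.Covers

/-!
# Morphisms into algebraic spaces form a sheaf for fpqc coverings of algebraic spaces

A map from a scheme to the base of the covering determines the value of a glued morphism, first after a
faithfully flat quasi-compact refinement, then by descent.
-/

set_option autoImplicit false
set_option backward.isDefEq.respectTransparency false
set_option backward.isDefEq.respectTransparency.types false
set_option maxHeartbeats 1000000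

universe u

open CategoryTheory CategoryTheory.Limits AlgebraicGeometry Opposite AlgSp Groth.Agent.AlgSpLib

namespace Groth.Agent.AlgSpFpqc

variable {S : Scheme.{u}}

/-- A jointly surjective family of flat morphisms of finite presentation of schemes is an fppf covering. -/
theorem fppfCover_yon {κ : Type u} {V : κ → Over S} {Z : Over S} (c : ∀ k, V k ⟶ Z)
    (hc : ∀ k, Flat (c k).left ∧ LocallyOfFinitePresentation (c k).left)
    (hs : ∀ z : Z.left, ∃ k, z ∈ Set.range (c k).left) :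
    IsFppfCover (fun k => (yon S).obj (V k)) (fun k => (yon S).map (c k)) := by
  refine ⟨fun k => ⟨locP_of_repWith ((repWith_yon_map_iff _ (c k)).2 (hc k).1),
    locP_of_repWith ((repWith_yon_map_iff _ (c k)).2 (hc k).2)⟩, fun y => ?_⟩
  obtain ⟨t, rfl⟩ := (Points.schemeHomeo Z).surjective y
  obtain ⟨k, v, rfl⟩ := hs t
  exact ⟨k, Points.schemeHomeo _ v, Points.map_yon_map_apply _ _⟩

theorem cover_pullback {κ : Type u} {V : κ → Over S} {Z Z' : Over S} (c : ∀ k, V k ⟶ Z) (v : Z' ⟶ Z)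
    (hc : ∀ k, Flat (c k).left ∧ LocallyOfFinitePresentation (c k).left)
    (hs : ∀ z : Z.left, ∃ k, z ∈ Set.range (c k).left) :
    (∀ k, Flat (pullback.snd (c k) v).left ∧ LocallyOfFinitePresentation (pullback.snd (c k) v).left) ∧
      ∀ z : Z'.left, ∃ k, z ∈ Set.range (pullback.snd (c k) v).left := by
  refine ⟨fun k => ⟨MorphismProperty.of_isPullback (isPullback_left (c k) v) (hc k).1,
    MorphismProperty.of_isPullback (isPullback_left (c k) v) (hc k).2⟩, fun z => ?_⟩
  obtain ⟨k, x, hx⟩ := hs (v.left z)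
  obtain ⟨w, -, hw⟩ := Scheme.exists_preimage_of_isPullback (isPullback_left (c k) v) x z hx
  exact ⟨k, w, hw⟩

variable {ι : Type u} {T : Sp S} {Ti : ι → Sp S} (g : ∀ i, Ti i ⟶ T) {B : Sp S}

/-- A map from a scheme lifts to the family locally for the fppf topology. -/
def LocLift {Z : Over S} (t : (yon S).obj Z ⟶ T) : Prop :=
  ∃ (κ : Type u) (V : κ → Over S) (c : ∀ k, V k ⟶ Z),
    (∀ k, Flat (c k).left ∧ LocallyOfFinitePresentation (c k).left) ∧
    (∀ z : Z.left, ∃ k, z ∈ Set.range (c k).left) ∧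
    ∀ k, ∃ (i : ι) (l : (yon S).obj (V k) ⟶ Ti i), l ≫ g i = (yon S).map (c k) ≫ t

theorem locLift_map {Z Z' : Over S} (v : Z' ⟶ Z) {t : (yon S).obj Z ⟶ T} (h : LocLift g t) :
    LocLift g ((yon S).map v ≫ t) := by
  obtain ⟨κ, V, c, hc, hs, hl⟩ := h
  refine ⟨κ, fun k => pullback (c k) v, fun k => pullback.snd (c k) v, (cover_pullback c v hc hs).1,
    (cover_pullback c v hc hs).2, fun k => ?_⟩
  obtain ⟨i, l, hl⟩ := hl k
  refine ⟨i, (yon S).map (pullback.fst (c k) v) ≫ l, ?_⟩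
  rw [Category.assoc, hl, ← Category.assoc, ← Functor.map_comp, pullback.condition, Functor.map_comp,
    Category.assoc]

variable (bi : ∀ i, Ti i ⟶ B)

/-- The value of a glued morphism on a map to the base. -/
def Cond {Z : Over S} (t : (yon S).obj Z ⟶ T) (m : (yon S).obj Z ⟶ B) : Prop :=
  ∀ (V : Over S) (v : V ⟶ Z) (i : ι) (l : (yon S).obj V ⟶ Ti i),
    l ≫ g i = (yon S).map v ≫ t → (yon S).map v ≫ m = l ≫ bi i

theorem cond_map {Z Z' : Over S} (v : Z' ⟶ Z) {t : (yon S).obj Z ⟶ T} {m : (yon S).obj Z ⟶ B}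
    (h : Cond g bi t m) : Cond g bi ((yon S).map v ≫ t) ((yon S).map v ≫ m) := fun V w i l hl => by
  rw [← Category.assoc, ← Functor.map_comp]
  exact h V (w ≫ v) i l (by rw [hl, Functor.map_comp, Category.assoc])

theorem cond_of_cover {Z : Over S} {t : (yon S).obj Z ⟶ T} {m : (yon S).obj Z ⟶ B} {κ : Type u}
    {V : κ → Over S} (c : ∀ k, V k ⟶ Z)
    (hc : ∀ k, Flat (c k).left ∧ LocallyOfFinitePresentation (c k).left)
    (hs : ∀ z : Z.left, ∃ k, z ∈ Set.range (c k).left)
    (h : ∀ k, Cond g bi ((yon S).map (c k) ≫ t) ((yon S).map (c k) ≫ m)) : Cond g bi t m := by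
  intro W w i l hl
  refine AlgSpDec.hom_ext_of_fppfCover (IsAlgSpace.yon_obj W) (fun k => IsAlgSpace.yon_obj _)
    (g := fun k => (yon S).map (pullback.snd (c k) w))
    (fppfCover_yon _ (cover_pullback c w hc hs).1 (cover_pullback c w hc hs).2) fun k => ?_
  have e : ∀ {G : Sp S} (z : (yon S).obj Z ⟶ G), (yon S).map (pullback.snd (c k) w) ≫ (yon S).map w ≫ z =
      (yon S).map (pullback.fst (c k) w) ≫ (yon S).map (c k) ≫ z := fun z => by
    rw [← Category.assoc, ← Functor.map_comp, ← pullback.condition, Functor.map_comp, Category.assoc]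
  rw [e, h k _ (pullback.fst (c k) w) i ((yon S).map (pullback.snd (c k) w) ≫ l)
    (by rw [Category.assoc, hl, e]), Category.assoc]

theorem eq_of_locLift {Z : Over S} {t : (yon S).obj Z ⟶ T} (ht : LocLift g t) {m m' : (yon S).obj Z ⟶ B}
    (h : Cond g bi t m) (h' : Cond g bi t m') : m = m' := by
  obtain ⟨κ, V, c, hc, hs, hl⟩ := ht
  refine AlgSpDec.hom_ext_of_fppfCover (IsAlgSpace.yon_obj Z) (fun k => IsAlgSpace.yon_obj _)
    (fppfCover_yon c hc hs) fun k => ?_
  obtain ⟨i, l, hl⟩ := hl k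
  rw [h _ (c k) i l hl, h' _ (c k) i l hl]

theorem exists_of_cover {Z : Over S} (t : (yon S).obj Z ⟶ T) {κ : Type u}
    {V : κ → Over S} (c : ∀ k, V k ⟶ Z)
    (hc : ∀ k, Flat (c k).left ∧ LocallyOfFinitePresentation (c k).left)
    (hs : ∀ z : Z.left, ∃ k, z ∈ Set.range (c k).left) (mk : ∀ k, (yon S).obj (V k) ⟶ B)
    (h : ∀ k, Cond g bi ((yon S).map (c k) ≫ t) (mk k))
    (huniq : ∀ (W : Over S) (w : W ⟶ Z) (m m' : (yon S).obj W ⟶ B),
      Cond g bi ((yon S).map w ≫ t) m → Cond g bi ((yon S).map w ≫ t) m' → m = m') :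
    ∃ m, Cond g bi t m := by
  obtain ⟨m, hm⟩ := AlgSpDec.exists_desc_of_fppfCover (IsAlgSpace.yon_obj Z) (fun k => IsAlgSpace.yon_obj _)
    (fppfCover_yon c hc hs) mk (fun i j W a b e => by
      obtain ⟨a, rfl⟩ := (yon S).map_surjective a
      obtain ⟨b, rfl⟩ := (yon S).map_surjective b
      refine huniq W (a ≫ c i) _ _ ?_ ?_
      · rw [Functor.map_comp, Category.assoc]
        exact cond_map g bi a (h i)
      · rw [Functor.map_comp, e, Category.assoc]
        exact cond_map g bi b (h j))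
  exact ⟨m, cond_of_cover g bi c hc hs fun k => by rw [hm k]; exact h k⟩

theorem exists_of_locLift
    (hcompat : ∀ (V : Over S) (i j : ι) (l : (yon S).obj V ⟶ Ti i) (l' : (yon S).obj V ⟶ Ti j),
      l ≫ g i = l' ≫ g j → l ≫ bi i = l' ≫ bi j)
    {Z : Over S} {t : (yon S).obj Z ⟶ T} (ht : LocLift g t) : ∃ m, Cond g bi t m := by
  obtain ⟨κ, V, c, hc, hs, hl⟩ := id ht
  choose i l hl using hl
  refine exists_of_cover g bi t c hc hs (fun k => l k ≫ bi (i k)) (fun k W w j l' hl' => ?_)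
    fun W w m m' => eq_of_locLift g bi (locLift_map g w ht)
  rw [← Category.assoc]
  exact hcompat W _ _ _ _ (by rw [Category.assoc, hl, hl'])

variable (hB : IsAlgSpace B) (hg : IsFpqcCover Ti g)

include hg in
theorem exists_fpqc {Z : Over S} [IsAffine Z.left] (t : (yon S).obj Z ⟶ T) :
    ∃ (W : Over S) (p : W ⟶ Z), Flat p.left ∧ Surjective p.left ∧ QuasiCompact p.left ∧
      LocLift g ((yon S).map p ≫ t) := by
  obtain ⟨m, W, c, hW, hc, hs, hl⟩ := hg.2 Z inferInstance t
  let W' : ULift.{u} (Fin m) → Scheme.{u} := fun j => (W j.down).left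
  have : ∀ j, IsAffine (W' j) := fun j => hW _
  let WW : Over S := Over.mk (Sigma.desc fun j : ULift.{u} (Fin m) => (W j.down).hom : ∐ W' ⟶ S)
  let p : WW ⟶ Z := Over.homMk (Sigma.desc fun j => (c j.down).left : ∐ W' ⟶ Z.left) (by
    apply Sigma.hom_ext
    intro j
    simp [WW])
  let inc : ∀ j : ULift.{u} (Fin m), W j.down ⟶ WW := fun j =>
    Over.homMk (Sigma.ι W' j) (Sigma.ι_desc _ _)
  have : IsAffine WW.left := inferInstanceAs (IsAffine (∐ W'))
  refine ⟨WW, p, IsZariskiLocalAtSource.sigmaDesc (P := @Flat) (fun j => hc j.down), ⟨fun z => ?_⟩,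
    inferInstance, ⟨ULift.{u} (Fin m), fun j => W j.down, inc, fun j => ?_, fun z => ?_, fun j => ?_⟩⟩
  · obtain ⟨j, y, rfl⟩ := hs z
    refine ⟨(inc ⟨j⟩).left y, ?_⟩
    show (Sigma.ι W' ⟨j⟩ ≫ Sigma.desc _) y = _
    rw [Sigma.ι_desc]
  · have : IsOpenImmersion (inc j).left := inferInstanceAs (IsOpenImmersion (Sigma.ι W' j))
    exact ⟨inferInstance, inferInstance⟩
  · obtain ⟨j, y, hy⟩ := (AlgebraicGeometry.sigmaOpenCover W').exists_eq z
    exact ⟨j, y, hy⟩
  · obtain ⟨i, l, hl⟩ := hl j.down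
    refine ⟨i, l, ?_⟩
    rw [hl, ← Category.assoc, ← Functor.map_comp,
      show inc j ≫ p = c j.down from Over.OverMorphism.ext (Sigma.ι_desc _ _)]

/-- The inclusion of an open subscheme. -/
noncomputable abbrev opIncl (Z : Over S) (O : Z.left.affineOpens) : Over.mk (O.1.ι ≫ Z.hom) ⟶ Z :=
  Over.homMk O.1.ι rfl

theorem opIncl_cover (Z : Over S) :
    (∀ O : Z.left.affineOpens, Flat (opIncl Z O).left ∧ LocallyOfFinitePresentation (opIncl Z O).left) ∧
      ∀ z : Z.left, ∃ O : Z.left.affineOpens, z ∈ Set.range (opIncl Z O).left := by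
  refine ⟨fun O => ⟨inferInstanceAs (Flat O.1.ι), inferInstanceAs (LocallyOfFinitePresentation O.1.ι)⟩,
    fun z => ?_⟩
  obtain ⟨O, hO, hzO, -⟩ := exists_isAffineOpen_mem_and_subset (U := (⊤ : Z.left.Opens)) (x := z) trivial
  exact ⟨⟨O, hO⟩, ⟨z, hzO⟩, rfl⟩

include hB hg in
theorem eq_of_cond {Z : Over S} {t : (yon S).obj Z ⟶ T} {m m' : (yon S).obj Z ⟶ B}
    (h : Cond g bi t m) (h' : Cond g bi t m') : m = m' := by
  refine AlgSpDec.hom_ext_of_fppfCover (IsAlgSpace.yon_obj Z) (fun O => IsAlgSpace.yon_obj _)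
    (fppfCover_yon (opIncl Z) (opIncl_cover Z).1 (opIncl_cover Z).2) fun O => ?_
  have : IsAffine (Over.mk (O.1.ι ≫ Z.hom)).left := O.2
  obtain ⟨W, p, _, _, _, hW⟩ := exists_fpqc g hg ((yon S).map (opIncl Z O) ≫ t)
  refine ext_of_fpqc hB p _ _ ?_
  exact eq_of_locLift g bi hW (cond_map g bi p (cond_map g bi _ h)) (cond_map g bi p (cond_map g bi _ h'))

include hB hg in
theorem exists_of_cond (hcompat : ∀ (V : Over S) (i j : ι) (l : (yon S).obj V ⟶ Ti i)
      (l' : (yon S).obj V ⟶ Ti j), l ≫ g i = l' ≫ g j → l ≫ bi i = l' ≫ bi j)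
    {Z : Over S} (t : (yon S).obj Z ⟶ T) : ∃ m, Cond g bi t m := by
  have hA : ∀ {Z : Over S} [IsAffine Z.left] (t : (yon S).obj Z ⟶ T), ∃ m, Cond g bi t m := by
    intro Z _ t
    obtain ⟨W, p, _, _, _, hW⟩ := exists_fpqc g hg t
    obtain ⟨mW, hmW⟩ := exists_of_locLift g bi hcompat hW
    obtain ⟨m, hm⟩ := exists_desc p mW (fun Z' y₀ y₁ e => by
      refine eq_of_locLift g bi (locLift_map g y₀ hW) (cond_map g bi y₀ hmW) ?_
      rw [← Category.assoc, ← Functor.map_comp, e, Functor.map_comp, Category.assoc]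
      exact cond_map g bi y₁ hmW) hB
    refine ⟨m, fun V v i l hl => ?_⟩
    let q := pullback.fst v p
    have : Flat q.left := MorphismProperty.of_isPullback (isPullback_left v p).flip ‹Flat p.left›
    have : Surjective q.left := MorphismProperty.of_isPullback (isPullback_left v p).flip ‹Surjective p.left›
    have : QuasiCompact q.left := MorphismProperty.of_isPullback (isPullback_left v p).flip ‹QuasiCompact p.left›
    refine ext_of_fpqc hB q _ _ ?_
    have e : ∀ {G : Sp S} (z : (yon S).obj Z ⟶ G), (yon S).map q ≫ (yon S).map v ≫ z =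
        (yon S).map (pullback.snd v p) ≫ (yon S).map p ≫ z := fun z => by
      rw [← Category.assoc, ← Functor.map_comp, pullback.condition, Functor.map_comp, Category.assoc]
    rw [e, hm, hmW _ (pullback.snd v p) i ((yon S).map q ≫ l) (by rw [Category.assoc, hl, e]), Category.assoc]
  choose mk hmk using fun O : Z.left.affineOpens =>
    haveI : IsAffine (Over.mk (O.1.ι ≫ Z.hom)).left := O.2
    hA ((yon S).map (opIncl Z O) ≫ t)
  exact exists_of_cover g bi t (opIncl Z) (opIncl_cover Z).1 (opIncl_cover Z).2 mk hmk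
    fun W w m m' => eq_of_cond g bi hB hg

variable (hT : IsAlgSpace T)

include hB hg hT in
/-- Morphisms which agree on an fpqc covering are equal. -/
theorem hom_ext_of_fpqcCover {a b : T ⟶ B} (h : ∀ i, g i ≫ a = g i ≫ b) : a = b := by
  obtain ⟨U, p₀, he, hsurj⟩ := hT.atlas
  refine AlgSpDec.hom_ext_of_fppfCover hT (fun _ : PUnit.{u + 1} => IsAlgSpace.yon_obj U)
    (isFppfCover_of_repWith_etale he hsurj) fun _ => ?_
  refine eq_of_cond g (fun i => g i ≫ a) hB hg (t := p₀) (fun V v i l hl => ?_) (fun V v i l hl => ?_)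
  · rw [← Category.assoc, ← hl, Category.assoc]
  · rw [← Category.assoc, ← hl, Category.assoc]
    exact congrArg (l ≫ ·) (h i).symm

include hB hg hT in
/-- Morphisms on the members of an fpqc covering with equal restrictions to overlaps glue. -/
theorem exists_desc_of_fpqcCover (hTi : ∀ i, IsAlgSpace (Ti i))
    (hcompat : ∀ (V : Over S) (i j : ι) (l : (yon S).obj V ⟶ Ti i) (l' : (yon S).obj V ⟶ Ti j),
      l ≫ g i = l' ≫ g j → l ≫ bi i = l' ≫ bi j) : ∃ b : T ⟶ B, ∀ i, g i ≫ b = bi i := by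
  obtain ⟨U, p₀, he, hsurj⟩ := hT.atlas
  have hcov := isFppfCover_of_repWith_etale he hsurj
  obtain ⟨m, hm⟩ := exists_of_cond g bi hB hg hcompat p₀
  obtain ⟨b, hb⟩ := AlgSpDec.exists_desc_of_fppfCover hT (fun _ : PUnit.{u + 1} => IsAlgSpace.yon_obj U) hcov
    (fun _ => m) (fun _ _ V v v' e => by
      obtain ⟨v, rfl⟩ := (yon S).map_surjective v
      obtain ⟨v', rfl⟩ := (yon S).map_surjective v'
      refine eq_of_cond g bi hB hg (cond_map g bi v hm) ?_
      rw [e]
      exact cond_map g bi v' hm)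
  refine ⟨b, fun i => ?_⟩
  obtain ⟨U', a', he', hsurj'⟩ := (hTi i).atlas
  refine AlgSpDec.hom_ext_of_fppfCover (hTi i) (fun _ : PUnit.{u + 1} => IsAlgSpace.yon_obj U')
    (isFppfCover_of_repWith_etale he' hsurj') fun _ => ?_
  obtain ⟨W, l, v, hl, hfl, hfp, hs⟩ := exists_fppf_family hT (fun _ : PUnit.{u + 1} => IsAlgSpace.yon_obj U)
    (fun _ => p₀) hcov (a' ≫ g i)
  have hc : Cond g bi (a' ≫ g i) (a' ≫ g i ≫ b) := by
    refine cond_of_cover g bi v (fun k => ⟨hfl k, hfp k⟩) hs fun k => ?_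
    obtain ⟨w, hw⟩ := (yon S).map_surjective (l k)
    rw [← Category.assoc a' (g i) b, ← Category.assoc ((yon S).map (v k)) (a' ≫ g i) b, ← hl k, Category.assoc,
      hb k, ← hw]
    exact cond_map g bi w hm
  have := hc U' (𝟙 _) i a' (by rw [CategoryTheory.Functor.map_id, Category.id_comp])
  rwa [CategoryTheory.Functor.map_id, Category.id_comp] at this

end Groth.Agent.AlgSpFpqc
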