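import Groth.Agent.AlgSpFpqc.Mor
import Groth.Agent.AlgSpLib.Rep

/-!
# Colimits of algebraic spaces can be recognised after an fpqc covering of the vertex

The glued morphisms come from the sheaf property of morphisms into algebraic spaces.
-/

set_option autoImplicit false
set_option backward.isDefEq.respectTransparency false
set_option backward.isDefEq.respectTransparency.types false
set_option maxHeartbeats 1000000

universe w v u

open CategoryTheory CategoryTheory.Limits AlgebraicGeometry Opposite AlgSp Groth.Agent.AlgSpLib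

namespace Groth.Agent.AlgSpFpqc

variable {S : Scheme.{u}} {B : AlgSp.Space S} {I : Type v} [Category.{w} I] {D : I ⥤ Over B}

theorem over_hom_ext {X Y : Over B} {f g : X ⟶ Y} (h : f.left.hom = g.left.hom) : f = g :=
  Over.OverMorphism.ext (InducedCategory.hom_ext h)

theorem over_w {X Y : Over B} (f : X ⟶ Y) : f.left.hom ≫ Y.hom.hom = X.hom.hom :=
  congrArg (fun k => k.hom) (Over.w f)

/-- The base change of a cocone along a morphism to its vertex. -/
theorem exists_baseChange (c : Cocone D) (U : Over B) (t : U ⟶ c.pt) :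
    ∃ (Da : I ⥤ Over B) (α : Da ⟶ D) (ι : Da ⟶ (Functor.const I).obj U),
      ∀ i, IsPullback (ι.app i).left.hom (α.app i).left.hom t.left.hom (c.ι.app i).left.hom := by
  let P : I → AlgSp.Space S := fun i =>
    ⟨pullback t.left.hom (c.ι.app i).left.hom,
      isAlgSpace_pullback U.left.property (D.obj i).left.property c.pt.left.property _ _⟩
  let f₁ : ∀ i, P i ⟶ U.left := fun i => ObjectProperty.homMk (pullback.fst _ _)
  let f₂ : ∀ i, P i ⟶ (D.obj i).left := fun i => ObjectProperty.homMk (pullback.snd _ _)
  let O : I → Over B := fun i => Over.mk (f₁ i ≫ U.hom)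
  let a : ∀ i, O i ⟶ D.obj i := fun i => Over.homMk (f₂ i) (InducedCategory.hom_ext (by
    show pullback.snd _ _ ≫ (D.obj i).hom.hom = pullback.fst _ _ ≫ U.hom.hom
    rw [← over_w (c.ι.app i), ← over_w t, ← Category.assoc, ← Category.assoc, pullback.condition]
    rfl))
  let b : ∀ i, O i ⟶ U := fun i => Over.homMk (f₁ i) rfl
  let m : ∀ {i j : I} (g : i ⟶ j), P i ⟶ P j := fun {i j} g => ObjectProperty.homMk
    (pullback.lift (pullback.fst _ _) (pullback.snd _ _ ≫ (D.map g).left.hom) (by
      rw [Category.assoc, ← show (c.ι.app i).left.hom = (D.map g).left.hom ≫ (c.ι.app j).left.hom from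
        congrArg (fun k => k.left.hom) (c.w g).symm, pullback.condition]))
  let Da : I ⥤ Over B :=
    { obj := O
      map := fun g => Over.homMk (m g) (InducedCategory.hom_ext (by
        show pullback.lift _ _ _ ≫ pullback.fst _ _ ≫ U.hom.hom = pullback.fst _ _ ≫ U.hom.hom
        rw [pullback.lift_fst_assoc]))
      map_id := fun i => over_hom_ext (by
        show pullback.lift _ _ _ = 𝟙 _
        apply pullback.hom_ext <;> simp)
      map_comp := fun g g' => over_hom_ext (by
        show pullback.lift _ _ _ = pullback.lift _ _ _ ≫ pullback.lift _ _ _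
        apply pullback.hom_ext <;> simp) }
  exact ⟨Da, { app := a, naturality := fun i j g => over_hom_ext (pullback.lift_snd _ _ _) },
    { app := b
      naturality := fun i j g => over_hom_ext (by
        show pullback.lift _ _ _ ≫ pullback.fst _ _ = pullback.fst _ _ ≫ 𝟙 _
        rw [pullback.lift_fst, Category.comp_id]) }, fun i => IsPullback.of_hasPullback _ _⟩

/-- A cocone is a colimit if its base changes along an fpqc covering and the overlaps are. -/
theorem isColimit_of_fpqcCover (c : Cocone D) {κ : Type u} (Ua : κ → Over B) (ua : ∀ a, Ua a ⟶ c.pt)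
    (hcov : AlgSp.IsFpqcCover (fun a => (Ua a).left.obj) (fun a => (ua a).left.hom))
    (h₁ : ∀ (a : κ) (Da : I ⥤ Over B) (α : Da ⟶ D) (ι : Da ⟶ (Functor.const I).obj (Ua a)),
      (∀ i, IsPullback (ι.app i).left.hom (α.app i).left.hom (ua a).left.hom (c.ι.app i).left.hom) →
        Nonempty (IsColimit (Cocone.mk (Ua a) ι)))
    (h₂ : ∀ (a b : κ) (Uab : Over B) (pa : Uab ⟶ Ua a) (pb : Uab ⟶ Ua b),
      IsPullback pa.left.hom pb.left.hom (ua a).left.hom (ua b).left.hom →
      ∀ (Dab : I ⥤ Over B) (α : Dab ⟶ D) (ι : Dab ⟶ (Functor.const I).obj Uab),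
        (∀ i, IsPullback (ι.app i).left.hom (α.app i).left.hom (pa ≫ ua a).left.hom (c.ι.app i).left.hom) →
          Nonempty (IsColimit (Cocone.mk Uab ι))) :
    Nonempty (IsColimit c) := by
  choose Da α ι hpb using fun a => exists_baseChange c (Ua a) (ua a)
  have hc := fun a => (h₁ a (Da a) (α a) (ι a) (hpb a)).some
  have hsq : ∀ a i, (ι a).app i ≫ ua a = (α a).app i ≫ c.ι.app i := fun a i => over_hom_ext (hpb a i).w
  have key : ∀ d : Cocone D, ∃! m : c.pt ⟶ d.pt, ∀ i, c.ι.app i ≫ m = d.ι.app i := by
    intro d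
    let ma : ∀ a, Ua a ⟶ d.pt := fun a => (hc a).desc ⟨d.pt, α a ≫ d.ι⟩
    have hma : ∀ a i, (ι a).app i ≫ ma a = (α a).app i ≫ d.ι.app i := fun a i =>
      (hc a).fac ⟨d.pt, α a ≫ d.ι⟩ i
    have hov : ∀ (a b : κ) (V : Over S) (l : (yon S).obj V ⟶ (Ua a).left.obj)
        (l' : (yon S).obj V ⟶ (Ua b).left.obj), l ≫ (ua a).left.hom = l' ≫ (ua b).left.hom →
          l ≫ (ma a).left.hom = l' ≫ (ma b).left.hom := by
      intro a b V l l' e
      let P : AlgSp.Space S := ⟨pullback (ua a).left.hom (ua b).left.hom,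
        isAlgSpace_pullback (Ua a).left.property (Ua b).left.property c.pt.left.property _ _⟩
      let f₁ : P ⟶ (Ua a).left := ObjectProperty.homMk (pullback.fst _ _)
      let f₂ : P ⟶ (Ua b).left := ObjectProperty.homMk (pullback.snd _ _)
      let Uab : Over B := Over.mk (f₁ ≫ (Ua a).hom)
      let pa : Uab ⟶ Ua a := Over.homMk f₁ rfl
      let pb : Uab ⟶ Ua b := Over.homMk f₂ (InducedCategory.hom_ext (by
        show pullback.snd _ _ ≫ (Ua b).hom.hom = pullback.fst _ _ ≫ (Ua a).hom.hom
        rw [← over_w (ua a), ← over_w (ua b), ← Category.assoc, ← Category.assoc, pullback.condition]))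
      have hp : pa ≫ ua a = pb ≫ ua b := over_hom_ext pullback.condition
      obtain ⟨Dab, β, κ', hab⟩ := exists_baseChange c Uab (pa ≫ ua a)
      obtain ⟨hcab⟩ := h₂ a b Uab pa pb (IsPullback.of_hasPullback _ _) Dab β κ' hab
      have hfac : ∀ (k : κ) (q : Uab ⟶ Ua k), q ≫ ua k = pa ≫ ua a →
          ∀ i, κ'.app i ≫ q ≫ ma k = β.app i ≫ d.ι.app i := by
        intro k q hq i
        have hw : (κ'.app i ≫ q).left.hom ≫ (ua k).left.hom = (β.app i).left.hom ≫ (c.ι.app i).left.hom :=
          (congrArg (fun z => (κ'.app i).left.hom ≫ z.left.hom) hq).trans (hab i).w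
        let r₀ : (Dab.obj i).left ⟶ ((Da k).obj i).left := ObjectProperty.homMk ((hpb k i).lift _ _ hw)
        let r : Dab.obj i ⟶ (Da k).obj i := Over.homMk r₀ (InducedCategory.hom_ext (by
          show (hpb k i).lift _ _ hw ≫ ((Da k).obj i).hom.hom = _
          rw [← over_w ((α k).app i), IsPullback.lift_snd_assoc, over_w]))
        have hr₁ : r ≫ (ι k).app i = κ'.app i ≫ q := over_hom_ext ((hpb k i).lift_fst _ _ hw)
        have hr₂ : r ≫ (α k).app i = β.app i := over_hom_ext ((hpb k i).lift_snd _ _ hw)
        rw [← Category.assoc, ← hr₁, Category.assoc, hma, ← Category.assoc, hr₂]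
      have heq : pa ≫ ma a = pb ≫ ma b := hcab.hom_ext fun i =>
        (hfac a pa rfl i).trans (hfac b pb hp.symm i).symm
      have h' := congrArg (fun z => pullback.lift l l' e ≫ z.left.hom) heq
      simpa [pa, pb, f₁, f₂] using h'
    obtain ⟨m₀, hm₀⟩ := exists_desc_of_fpqcCover (fun a => (ua a).left.hom) (fun a => (ma a).left.hom)
      d.pt.left.property hcov c.pt.left.property (fun a => (Ua a).left.property) (fun V i j => hov i j V)
    have hmw : m₀ ≫ d.pt.hom.hom = c.pt.hom.hom :=
      hom_ext_of_fpqcCover (fun a => (ua a).left.hom) B.property hcov c.pt.left.property fun a => by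
        rw [← Category.assoc, hm₀, over_w (ua a)]
        exact over_w (ma a)
    let m' : c.pt.left ⟶ d.pt.left := ObjectProperty.homMk m₀
    let m : c.pt ⟶ d.pt := Over.homMk m' (InducedCategory.hom_ext hmw)
    have hm : ∀ a, ua a ≫ m = ma a := fun a => over_hom_ext (hm₀ a)
    refine ⟨m, fun i => over_hom_ext ?_, fun n hn => over_hom_ext ?_⟩
    · refine hom_ext_of_fpqcCover (fun a => ((α a).app i).left.hom) d.pt.left.property
        (isFpqcCover_of_isPullback c.pt.left.property (D.obj i).left.property
          (fun a => (Ua a).left.property) (fun a => (hpb a i).flip) hcov) (D.obj i).left.property fun a => ?_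
      have : (α a).app i ≫ c.ι.app i ≫ m = (α a).app i ≫ d.ι.app i := by
        rw [← Category.assoc, ← hsq, Category.assoc, hm, hma]
      exact congrArg (fun z => z.left.hom) this
    · refine hom_ext_of_fpqcCover (fun a => (ua a).left.hom) d.pt.left.property hcov c.pt.left.property
        fun a => ?_
      have : ua a ≫ n = ua a ≫ m := by
        rw [hm]
        refine (hc a).hom_ext fun i => ?_
        show (ι a).app i ≫ ua a ≫ n = (ι a).app i ≫ ma a
        rw [← Category.assoc, hsq, Category.assoc, hn, hma]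
      exact congrArg (fun z => z.left.hom) this
  choose m hm huniq using key
  exact ⟨{ desc := m, fac := hm, uniq := huniq }⟩

end Groth.Agent.AlgSpFpqc
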