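import Groth.Agent.DescLib.IndQAEff
import Groth.Agent.EtFound.Descent
import Groth.Agent.AlgSpLib.EtLocalInst
import Groth.Agent.AlgSpLib.FpqcDescent
import Groth.Agent.AlgSpLib.Rep
import Groth.Agent.AlgSpDec.HomDescent
import Mathlib.AlgebraicGeometry.Morphisms.LocalFlatDescent
import Mathlib.AlgebraicGeometry.Sites.Fpqc

/-!
# Morphisms into algebraic spaces descend along fpqc morphisms of affine schemes

The pullbacks of the affine charts are separated etale over the covering, so they descend with their maps.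
-/

set_option autoImplicit false
set_option backward.isDefEq.respectTransparency false
set_option backward.isDefEq.respectTransparency.types false
set_option maxHeartbeats 1000000

universe u

open CategoryTheory CategoryTheory.Limits AlgebraicGeometry Opposite AlgSp Groth.Agent.AlgSpLib

namespace Groth.Agent.AlgSpFpqc

variable {S : Scheme.{u}} {X : Sp S}

theorem isPullback_left {A B C : Over S} (f : A ⟶ C) (g : B ⟶ C) :
    IsPullback (pullback.fst f g).left (pullback.snd f g).left f.left g.left :=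
  (IsPullback.of_hasPullback f g).map (Over.forget S)

/-- Maps to an algebraic space agree if they agree after a faithfully flat quasi-compact morphism. -/
theorem ext_of_fpqc (hX : IsAlgSpace X) {T T' : Over S} (c : T' ⟶ T) [Flat c.left] [Surjective c.left]
    [QuasiCompact c.left] (a b : (yon S).obj T ⟶ X) (h : (yon S).map c ≫ a = (yon S).map c ≫ b) : a = b := by
  let hr := hX.diag
  let d : (yon S).obj T ⟶ X ⨯ X := prod.lift a b
  let e : hr.pullback d ⟶ T := hr.snd d
  have hme : Mono ((yon S).map e) :=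
    MorphismProperty.of_isPullback (P := MorphismProperty.monomorphisms _) (hr.isPullback d)
      (inferInstanceAs (Mono (Limits.diag X)))
  have : Mono e := (yon S).mono_of_mono_map hme
  let s : T' ⟶ hr.pullback d := hr.lift ((yon S).map c ≫ a) c (by
    apply prod.hom_ext
    · simp [d]
    · simpa [d] using h)
  have hs : s ≫ e = c := hr.lift_snd _ _ _
  have : Mono (pullback.snd e.left c.left) := inferInstance
  have hsec : pullback.lift s.left (𝟙 _) (by rw [Category.id_comp, ← Over.comp_left, hs]) ≫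
      pullback.snd e.left c.left = 𝟙 _ := pullback.lift_snd _ _ _
  have hiso : IsIso (pullback.snd e.left c.left) :=
    @isIso_of_mono_of_isSplitEpi _ _ _ _ (pullback.snd e.left c.left) this (IsSplitEpi.mk' ⟨_, hsec⟩)
  have hiso' : IsIso e.left := MorphismProperty.of_pullback_snd_of_descendsAlong
    (P := MorphismProperty.isomorphisms Scheme.{u}) (Q := @Surjective ⊓ @Flat ⊓ @QuasiCompact) (g := c.left)
    ⟨⟨‹_›, ‹_›⟩, ‹_›⟩ hiso
  have : IsIso ((Over.forget S).map e) := hiso'
  have : IsIso e := isIso_of_reflects_iso e (Over.forget S)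
  have h1 := hr.w d =≫ prod.fst
  have h2 := hr.w d =≫ prod.snd
  simp only [Category.assoc, Limits.prod.lift_fst, Limits.prod.lift_snd, d, Limits.diag, prod.lift_fst,
    prod.lift_snd, Category.comp_id] at h1 h2
  rw [← cancel_epi ((yon S).map e)]
  exact h1.symm.trans h2

variable {T T' : Over S} (p : T' ⟶ T) [Flat p.left] [Surjective p.left] [QuasiCompact p.left]
  (x' : (yon S).obj T' ⟶ X)
  (hx' : ∀ (Z : Over S) (y₀ y₁ : Z ⟶ T'), y₀ ≫ p = y₁ ≫ p → (yon S).map y₀ ≫ x' = (yon S).map y₁ ≫ x')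

include hx' in
/-- The pullback of an affine chart descends, with its map to the chart. -/
theorem exists_piece {U : Over S} [IsAffine U.left] (u : (yon S).obj U ⟶ X) (hu : RepWith @Etale u) :
    ∃ (V : Over S) (π : V ⟶ T) (w : V ⟶ U), Etale π.left ∧
      (yon S).map (pullback.fst π p ≫ w) ≫ u = (yon S).map (pullback.snd π p) ≫ x' ∧
      ∀ t : ↥T'.left, Points.ofPt x' t ∈ Set.range (Points.ofPt u) → p.left t ∈ Set.range π.left := by
  let P' := hu.rep.pullback x'
  let v' : P' ⟶ T' := hu.rep.snd x'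
  let w' : P' ⟶ U := hu.rep.fst' x'
  have hsq : (yon S).map w' ≫ u = (yon S).map v' ≫ x' := (hu.rep.isPullback' x').w
  have hve : Etale v'.left := hu.property_snd x'
  have hpt : ∀ {Z : Over S} (a b : Z ⟶ P'), a ≫ w' = b ≫ w' → a ≫ v' = b ≫ v' → a = b := fun a b h₁ h₂ =>
    (yon S).map_injective ((hu.rep.isPullback' x').hom_ext
      (by rw [← Functor.map_comp, ← Functor.map_comp, h₁]) (by rw [← Functor.map_comp, ← Functor.map_comp, h₂]))
  have hext : ∀ {Z : Scheme.{u}} (a b : Z ⟶ P'.left), a ≫ w'.left = b ≫ w'.left → a ≫ v'.left = b ≫ v'.left →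
      a = b := fun {Z} a b h₁ h₂ => by
    have e : b ≫ P'.hom = a ≫ P'.hom := by rw [← Over.w v', ← Category.assoc, ← h₂, Category.assoc]
    exact congrArg (fun l => l.left) (hpt (Z := Over.mk (a ≫ P'.hom)) (Over.homMk a rfl) (Over.homMk b e)
      (by ext; exact h₁) (by ext; exact h₂))
  have hsep : IsSeparated v'.left := by
    have : IsSeparated U.hom := by
      have : IsSeparated (U.hom ≫ terminal.from S) := by rw [terminal.comp_from]; infer_instance
      exact IsSeparated.of_comp U.hom (terminal.from S)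
    let k : P'.left ⟶ pullback U.hom T'.hom := pullback.lift w'.left v'.left (by rw [Over.w w', Over.w v'])
    have : Mono k := ⟨fun a b e => hext a b
      (by have := congrArg (· ≫ pullback.fst U.hom T'.hom) e; simpa [k] using this)
      (by have := congrArg (· ≫ pullback.snd U.hom T'.hom) e; simpa [k] using this)⟩
    rw [← show k ≫ pullback.snd U.hom T'.hom = v'.left from pullback.lift_snd _ _ _]
    infer_instance
  -- the descent datum
  have key : ∀ {Z : Scheme.{u}} (x₀ x₁ : Z ⟶ T'.left), x₀ ≫ p.left = x₁ ≫ p.left →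
      ∀ v : Desc.Lifts (Over.mk v'.left) x₀, ∃ r : Desc.Lifts (Over.mk v'.left) x₁,
        r.1 ≫ w'.left = v.1 ≫ w'.left := fun {Z} x₀ x₁ h v => by
    have e : x₁ ≫ T'.hom = x₀ ≫ T'.hom := by rw [← Over.w p, ← Category.assoc, ← h, Category.assoc]
    let Z₀ : Over S := Over.mk (x₀ ≫ T'.hom)
    let y₀ : Z₀ ⟶ T' := Over.homMk x₀ rfl
    let y₁ : Z₀ ⟶ T' := Over.homMk x₁ e
    let z : Z₀ ⟶ P' := Over.homMk v.1 (by
      show v.1 ≫ P'.hom = x₀ ≫ T'.hom
      rw [← Over.w v', ← Category.assoc, show v.1 ≫ v'.left = x₀ from v.2])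
    have hz : z ≫ v' = y₀ := Over.OverMorphism.ext v.2
    let r : Z₀ ⟶ P' := hu.rep.lift' (z ≫ w') y₁ (by
      rw [Functor.map_comp, Category.assoc, hsq, ← Category.assoc, ← Functor.map_comp, hz]
      exact hx' Z₀ y₀ y₁ (Over.OverMorphism.ext h))
    exact ⟨⟨r.left, congrArg (fun l => l.left) (hu.rep.lift'_snd (z ≫ w') y₁ _)⟩,
      congrArg (fun l => l.left) (hu.rep.lift'_fst (z ≫ w') y₁ _)⟩
  choose act hact using @key
  have huniq : ∀ {Z : Scheme.{u}} {x₁ : Z ⟶ T'.left} (r r' : Desc.Lifts (Over.mk v'.left) x₁),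
      r.1 ≫ w'.left = r'.1 ≫ w'.left → r = r' := fun r r' h => Subtype.ext (hext _ _ h (r.2.trans r'.2.symm))
  let D : Desc.SchDD p.left :=
    { obj := Over.mk v'.left
      φ := fun Z x₀ x₁ h =>
        { toFun := act x₀ x₁ h
          invFun := act x₁ x₀ h.symm
          left_inv := fun v => huniq _ _ (by rw [hact, hact])
          right_inv := fun v => huniq _ _ (by rw [hact, hact]) }
      φ_natural := fun Z Z' g x₀ x₁ h h' v v' hv' => congrArg Subtype.val
        (huniq (act (g ≫ x₀) (g ≫ x₁) h' v') ⟨g ≫ (act x₀ x₁ h v).1, by rw [Category.assoc, (act x₀ x₁ h v).2]⟩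
          (by rw [hact, hv', Category.assoc, Category.assoc, hact]))
      φ_self := fun Z x v => huniq _ _ (hact _ _ _ _)
      φ_comp := fun Z x₀ x₁ x₂ h₀₁ h₁₂ v => huniq _ _ (by
        show (act x₁ x₂ h₁₂ (act x₀ x₁ h₀₁ v)).1 ≫ w'.left = (act x₀ x₂ _ v).1 ≫ w'.left
        rw [hact, hact, hact]) }
  obtain ⟨V₀, ⟨e⟩⟩ := DescLib.effective_single DescLib.IndQA.indQA
    (fun _ _ p _ _ _ _ D h => DescLib.IndQA.effective_indQA_hom p D h) p.left D
    (MorLib.IQA.indQA_of_locallyQuasiFinite v'.left)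
  let eo : ((Desc.toDD p.left).obj V₀).obj ≅ D.obj :=
    { hom := e.hom.hom
      inv := e.inv.hom
      hom_inv_id := congrArg Desc.SchDD.Hom.hom e.hom_inv_id
      inv_hom_id := congrArg Desc.SchDD.Hom.hom e.inv_hom_id }
  let ε : pullback p.left V₀.hom ⟶ P'.left := eo.hom.left
  have : IsIso ε := ⟨eo.inv.left, by rw [← Over.comp_left, eo.hom_inv_id]; rfl, by rw [← Over.comp_left, eo.inv_hom_id]; rfl⟩
  have hεv : ε ≫ v'.left = pullback.fst p.left V₀.hom := Over.w eo.hom
  have hπe : Etale V₀.hom := by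
    refine MorphismProperty.of_pullback_fst_of_descendsAlong (P := @Etale)
      (Q := @Surjective ⊓ @Flat ⊓ @QuasiCompact) (f := p.left) ⟨⟨‹_›, ‹_›⟩, ‹_›⟩ ?_
    rw [← hεv]
    exact MorphismProperty.comp_mem @Etale _ _ inferInstance hve
  -- the map to the chart descends
  have hinv : ∀ {Z : Scheme.{u}} (a b : Z ⟶ pullback p.left V₀.hom),
      a ≫ pullback.snd p.left V₀.hom = b ≫ pullback.snd p.left V₀.hom →
        a ≫ ε ≫ w'.left = b ≫ ε ≫ w'.left := fun a b hab => by
    have h : (a ≫ pullback.fst p.left V₀.hom) ≫ p.left = (b ≫ pullback.fst p.left V₀.hom) ≫ p.left := by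
      rw [Category.assoc, Category.assoc, pullback.condition, ← Category.assoc, hab, Category.assoc]
    let v : Desc.Lifts ((Desc.toDD p.left).obj V₀).obj (a ≫ pullback.fst p.left V₀.hom) := ⟨a, rfl⟩
    let r : Desc.Lifts D.obj (a ≫ pullback.fst p.left V₀.hom) := ⟨a ≫ ε, by
      show (a ≫ ε) ≫ v'.left = _
      rw [Category.assoc, hεv]⟩
    have hc := e.hom.comm _ _ h v r rfl
    have hv : (((Desc.toDD p.left).obj V₀).φ _ _ h v).1 = b := by
      refine pullback.hom_ext ?_ ?_
      · exact ((((Desc.toDD p.left).obj V₀).φ _ _ h v).2)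
      · exact (pullback.lift_snd _ _ _).trans hab
    rw [hv] at hc
    have hr := hact _ _ h r
    rw [show (act _ _ h r).1 = b ≫ ε from hc, Category.assoc, Category.assoc] at hr
    exact hr.symm
  have : Flat (pullback.snd p.left V₀.hom) := MorphismProperty.pullback_snd _ _ ‹Flat p.left›
  have : Surjective (pullback.snd p.left V₀.hom) := MorphismProperty.pullback_snd _ _ ‹Surjective p.left›
  have : QuasiCompact (pullback.snd p.left V₀.hom) := MorphismProperty.pullback_snd _ _ ‹QuasiCompact p.left›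
  let c₀ : pullback p.left V₀.hom ⟶ U.left := ε ≫ w'.left
  obtain ⟨w₀, hw₀⟩ : ∃ w₀, pullback.snd p.left V₀.hom ≫ w₀ = c₀ :=
    ⟨EffectiveEpi.desc (pullback.snd p.left V₀.hom) c₀ (fun g₁ g₂ hg => hinv g₁ g₂ hg),
      EffectiveEpi.fac _ _ _⟩
  let V : Over S := Over.mk (V₀.hom ≫ T.hom)
  let π : V ⟶ T := Over.homMk V₀.hom rfl
  let w : V ⟶ U := Over.homMk w₀ (by
    show w₀ ≫ U.hom = V₀.hom ≫ T.hom
    rw [← cancel_epi (pullback.snd p.left V₀.hom), ← Category.assoc, hw₀, Category.assoc, Over.w w', ← Over.w v',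
      ← Category.assoc, hεv, ← pullback.condition_assoc, Over.w p])
  refine ⟨V, π, w, hπe, ?_, fun t ht => ?_⟩
  · let a : (pullback π p).left ⟶ pullback p.left V₀.hom :=
      pullback.lift (pullback.snd π p).left (pullback.fst π p).left (isPullback_left π p).w.symm
    let ao : pullback π p ⟶ P' := Over.homMk (a ≫ ε) (by
      rw [← Over.w v', Category.assoc, ← Category.assoc ε, hεv, ← Category.assoc]
      show (a ≫ pullback.fst _ _) ≫ T'.hom = _
      rw [pullback.lift_fst, Over.w])
    have hao₁ : ao ≫ w' = pullback.fst π p ≫ w := Over.OverMorphism.ext (by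
      show (a ≫ ε) ≫ w'.left = (pullback.fst π p).left ≫ w₀
      rw [Category.assoc, show ε ≫ w'.left = pullback.snd p.left V₀.hom ≫ w₀ from hw₀.symm, ← Category.assoc,
        pullback.lift_snd])
    have hao₂ : ao ≫ v' = pullback.snd π p := Over.OverMorphism.ext (by
      show (a ≫ ε) ≫ v'.left = _
      rw [Category.assoc, hεv, pullback.lift_fst])
    rw [← hao₁, ← hao₂, Functor.map_comp, Functor.map_comp, Category.assoc, Category.assoc, hsq]
  · obtain ⟨w₁, hw₁⟩ := ht
    have h1 : Points.map u (Points.ofScheme U w₁) = Points.map x' (Points.ofScheme T' t) := by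
      rw [← Points.ofPt_eq_map_ofScheme, ← Points.ofPt_eq_map_ofScheme, hw₁]
    obtain ⟨q, -, hq⟩ := exists_point_of_isPullback (hu.rep.isPullback x') h1
    obtain ⟨q₀, rfl⟩ := (Points.schemeHomeo _).surjective q
    have hq₀ : v'.left q₀ = t :=
      (Points.schemeHomeo T').injective ((Points.map_yon_map_apply v' q₀).symm.trans hq)
    obtain ⟨z, rfl⟩ : ∃ z, ε z = q₀ := ⟨inv ε q₀, by rw [← Scheme.Hom.comp_apply, IsIso.inv_hom_id]; rfl⟩
    refine ⟨pullback.snd p.left V₀.hom z, ?_⟩
    show V₀.hom _ = p.left t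
    rw [← hq₀, ← Scheme.Hom.comp_apply ε, hεv, ← Scheme.Hom.comp_apply, ← Scheme.Hom.comp_apply, pullback.condition]

include hx' in
/-- A morphism to an algebraic space with equal pullbacks descends. -/
theorem exists_desc (hX : IsAlgSpace X) : ∃ x : (yon S).obj T ⟶ X, (yon S).map p ≫ x = x' := by
  obtain ⟨U₀, a₀, hae, has⟩ := hX.atlas
  let I := U₀.left.affineOpens
  let U : I → Over S := fun O => Over.mk (O.1.ι ≫ U₀.hom)
  let oU : ∀ O : I, U O ⟶ U₀ := fun O => Over.homMk O.1.ι rfl
  let u : ∀ O : I, (yon S).obj (U O) ⟶ X := fun O => (yon S).map (oU O) ≫ a₀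
  have hu : ∀ O, RepWith @Etale (u O) := fun O =>
    repWith_comp ((repWith_yon_map_iff _ _).2 (inferInstanceAs (Etale O.1.ι))) hae
  have hUa : ∀ O : I, IsAffine (U O).left := fun O => O.2
  choose V π w hπe hw hπr using fun O => haveI := hUa O; exists_piece p x' hx' (u O) (hu O)
  have hcov : ∀ t : ↥T.left, ∃ O, t ∈ Set.range (π O).left := fun t => by
    obtain ⟨t', rfl⟩ := p.left.surjective t
    obtain ⟨u₁, hu₁⟩ := surjective_ofPt has (Points.ofPt x' t')
    obtain ⟨O, hO, huO, -⟩ := exists_isAffineOpen_mem_and_subset (U := (⊤ : U₀.left.Opens)) (x := u₁) trivial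
    refine ⟨⟨O, hO⟩, hπr _ t' ⟨(⟨u₁, huO⟩ : O), ?_⟩⟩
    rw [← hu₁]
    exact (ofPt_comp (oU ⟨O, hO⟩) a₀ _).trans rfl
  have hfl : ∀ {A B : Over S} (f : A ⟶ B), Etale f.left →
      LocP @Flat ((yon S).map f) ∧ LocP @LocallyOfFinitePresentation ((yon S).map f) := fun f hf =>
    ⟨locP_of_repWith ((repWith_yon_map_iff _ f).2 (inferInstanceAs (Flat f.left))),
      locP_of_repWith ((repWith_yon_map_iff _ f).2 (inferInstanceAs (LocallyOfFinitePresentation f.left)))⟩
  have hTcov : IsFppfCover (fun O => (yon S).obj (V O)) (fun O => (yon S).map (π O)) := by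
    refine ⟨fun O => hfl _ (hπe O), fun y => ?_⟩
    obtain ⟨t, rfl⟩ := (Points.schemeHomeo T).surjective y
    obtain ⟨O, v, rfl⟩ := hcov t
    exact ⟨O, Points.schemeHomeo _ v, Points.map_yon_map_apply _ _⟩
  have hagree : ∀ (i j : I) (Z : Over S) (a : (yon S).obj Z ⟶ (yon S).obj (V i))
      (b : (yon S).obj Z ⟶ (yon S).obj (V j)), a ≫ (yon S).map (π i) = b ≫ (yon S).map (π j) →
        a ≫ (yon S).map (w i) ≫ u i = b ≫ (yon S).map (w j) ≫ u j := by
    intro i j Z a b hab
    obtain ⟨a, rfl⟩ := (yon S).map_surjective a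
    obtain ⟨b, rfl⟩ := (yon S).map_surjective b
    rw [← Functor.map_comp, ← Functor.map_comp] at hab
    have hab' := (yon S).map_injective hab
    let c := pullback.fst (a ≫ π i) p
    have : Flat c.left := MorphismProperty.of_isPullback (isPullback_left (a ≫ π i) p).flip ‹Flat p.left›
    have : Surjective c.left := MorphismProperty.of_isPullback (isPullback_left (a ≫ π i) p).flip ‹Surjective p.left›
    have : QuasiCompact c.left :=
      MorphismProperty.of_isPullback (isPullback_left (a ≫ π i) p).flip ‹QuasiCompact p.left›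
    refine ext_of_fpqc hX c _ _ ?_
    let li : pullback (a ≫ π i) p ⟶ pullback (π i) p :=
      pullback.lift (c ≫ a) (pullback.snd _ _) (by rw [Category.assoc, pullback.condition])
    let lj : pullback (a ≫ π i) p ⟶ pullback (π j) p :=
      pullback.lift (c ≫ b) (pullback.snd _ _) (by rw [Category.assoc, ← hab', pullback.condition])
    have e1 : li ≫ pullback.fst (π i) p = c ≫ a := pullback.lift_fst _ _ _
    have e2 : lj ≫ pullback.fst (π j) p = c ≫ b := pullback.lift_fst _ _ _
    have e3 : li ≫ pullback.snd (π i) p = lj ≫ pullback.snd (π j) p :=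
      (pullback.lift_snd _ _ _).trans (pullback.lift_snd _ _ _).symm
    calc (yon S).map c ≫ (yon S).map a ≫ (yon S).map (w i) ≫ u i
        = (yon S).map li ≫ (yon S).map (pullback.fst (π i) p ≫ w i) ≫ u i := by
          simp only [← Category.assoc, ← Functor.map_comp]; rw [e1]
      _ = (yon S).map lj ≫ (yon S).map (pullback.fst (π j) p ≫ w j) ≫ u j := by
          rw [hw i, hw j, ← Category.assoc, ← Functor.map_comp, e3, Functor.map_comp, Category.assoc]
      _ = (yon S).map c ≫ (yon S).map b ≫ (yon S).map (w j) ≫ u j := by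
          simp only [← Category.assoc, ← Functor.map_comp]; rw [e2]
  obtain ⟨x, hx⟩ := AlgSpDec.exists_desc_of_fppfCover (IsAlgSpace.yon_obj T) (fun O => IsAlgSpace.yon_obj _) hTcov
    (fun O => (yon S).map (w O) ≫ u O) hagree
  refine ⟨x, AlgSpDec.hom_ext_of_fppfCover (IsAlgSpace.yon_obj T') (fun O => IsAlgSpace.yon_obj _)
    (g := fun O => (yon S).map (pullback.snd (π O) p)) ?_ fun O => ?_⟩
  · refine ⟨fun O => hfl _ (MorphismProperty.of_isPullback (isPullback_left (π O) p) (hπe O)), fun y => ?_⟩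
    obtain ⟨t', rfl⟩ := (Points.schemeHomeo T').surjective y
    obtain ⟨O, v, hv⟩ := hcov (p.left t')
    obtain ⟨z, -, hz⟩ := exists_point_of_isPullback ((IsPullback.of_hasPullback (π O) p).map (yon S))
      (x := Points.schemeHomeo _ v) (y := Points.schemeHomeo _ t') (by
        rw [Points.map_yon_map_apply, Points.map_yon_map_apply, hv])
    exact ⟨O, z, hz⟩
  · rw [← Category.assoc, ← Functor.map_comp, ← pullback.condition, Functor.map_comp, Category.assoc, hx, ← hw O,
      Functor.map_comp, Category.assoc]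

end Groth.Agent.AlgSpFpqc
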