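import Mathlib.CategoryTheory.Sites.Over
import Mathlib.CategoryTheory.Sites.Canonical
import Mathlib.CategoryTheory.Sites.Sheaf

/-!
# Sheaves on a slice site as sheaves on the site

A presheaf `F` on `Over B` gives the presheaf `T ↦ Σ (h : T ⟶ B), F (T, h)`; when the maps to `B` form a
sheaf, `F` is a sheaf on the slice site exactly when this total presheaf is a sheaf.
-/

set_option autoImplicit false
set_option backward.isDefEq.respectTransparency false
set_option backward.isDefEq.respectTransparency.types false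

universe w v u

open CategoryTheory Opposite

namespace Groth.Agent.AlgSpFpqc

variable {C : Type u} [Category.{v} C] {B : C} (F : (Over B)ᵒᵖ ⥤ Type w)

/-- Equality of pairs. -/
theorem tot_ext {T : C} {h h' : T ⟶ B} {x : F.obj (op (Over.mk h))} {x' : F.obj (op (Over.mk h'))} (e : h = h')
    (hx : x = F.map (Over.homMk (𝟙 T) (by simp [e]) : Over.mk h ⟶ Over.mk h').op x') :
    (⟨h, x⟩ : Σ h : T ⟶ B, F.obj (op (Over.mk h))) = ⟨h', x'⟩ := by
  subst e
  congr 1
  rw [hx, show (Over.homMk (𝟙 T) _ : Over.mk h ⟶ Over.mk h) = 𝟙 _ from rfl, op_id, F.map_id]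
  rfl

/-- The presheaf of pairs of a map to the base and a section over it. -/
def tot : Cᵒᵖ ⥤ Type (max v w) where
  obj T := Σ h : T.unop ⟶ B, F.obj (op (Over.mk h))
  map {T T'} g := TypeCat.ofHom fun p =>
    ⟨g.unop ≫ p.1, F.map (Over.homMk g.unop : Over.mk (g.unop ≫ p.1) ⟶ Over.mk p.1).op p.2⟩
  map_id T := by
    refine ConcreteCategory.hom_ext _ _ fun ⟨h, x⟩ => ?_
    refine tot_ext F (Category.id_comp h) ?_
    rfl
  map_comp {T T' T''} g g' := by
    refine ConcreteCategory.hom_ext _ _ fun ⟨h, x⟩ => ?_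
    refine tot_ext F (Category.assoc _ _ _) ?_
    show (F.map _) x = (F.map _) ((F.map _) ((F.map _) x))
    rw [← Functor.map_comp_apply, ← Functor.map_comp_apply, ← op_comp, ← op_comp]
    congr 3
    apply Quiver.Hom.unop_inj
    ext
    simp

variable {F}

/-- The pair of an object of the slice and a section over it. -/
def pt (Y : Over B) (y : F.obj (op Y)) : (tot F).obj (op Y.left) :=
  ⟨Y.hom, F.map (Over.homMk (𝟙 Y.left) : Over.mk Y.hom ⟶ Y).op y⟩

theorem pt_injective (Y : Over B) : Function.Injective (pt (F := F) Y) := fun y y' e => by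
  have h := eq_of_heq (Sigma.mk.inj_iff.1 e).2
  have h' := congrArg (F.map (Over.homMk (𝟙 Y.left) : Y ⟶ Over.mk Y.hom).op) h
  simp only [← Functor.map_comp_apply, ← op_comp] at h'
  have e' : (Over.homMk (𝟙 Y.left) : Y ⟶ Over.mk Y.hom) ≫ (Over.homMk (𝟙 Y.left) : Over.mk Y.hom ⟶ Y) = 𝟙 Y := by
    ext; simp
  simpa only [e', op_id, Functor.map_id_apply] using h'

theorem exists_pt (Y : Over B) (e : (tot F).obj (op Y.left)) (he : e.1 = Y.hom) : ∃ y, pt Y y = e := by
  obtain ⟨h, x⟩ := e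
  subst he
  refine ⟨F.map (Over.homMk (𝟙 Y.left) : Y ⟶ Over.mk Y.hom).op x, ?_⟩
  refine tot_ext F rfl ?_
  simp only [← Functor.map_comp_apply, ← op_comp]
  congr 3
  apply Quiver.Hom.unop_inj
  ext
  simp

theorem map_pt {Y Z : Over B} (g : Z ⟶ Y) (y : F.obj (op Y)) :
    (tot F).map g.left.op (pt Y y) = pt Z (F.map g.op y) := by
  refine tot_ext F (Over.w g) ?_
  show (F.map _) ((F.map _) y) = (F.map _) ((F.map _) ((F.map _) y))
  rw [← Functor.map_comp_apply, ← Functor.map_comp_apply, ← Functor.map_comp_apply, ← op_comp, ← op_comp, ← op_comp]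
  congr 3
  apply Quiver.Hom.unop_inj
  ext
  simp

/-- If the total presheaf is a sheaf then so is the presheaf on the slice. -/
theorem isSheaf_over (K : GrothendieckTopology C) (hB : Presieve.IsSheaf K (yoneda.obj B))
    (hG : Presieve.IsSheaf K (tot F)) : Presieve.IsSheaf (K.over B) F := by
  intro Y R hR x hx
  let R' := Sieve.overEquiv Y R
  have hmem : ∀ {T : C} (t : T ⟶ Y.left), R' t → R (Over.homMk t : Over.mk (t ≫ Y.hom) ⟶ Y) := fun t ht =>
    (Sieve.overEquiv_iff R t).1 ht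
  let x' : Presieve.FamilyOfElements (tot F) R'.arrows := fun T t ht => pt (Over.mk (t ≫ Y.hom)) (x _ (hmem t ht))
  have hx' : x'.Compatible := by
    intro T₁ T₂ W g₁ g₂ t₁ t₂ h₁ h₂ e
    let W' : Over B := Over.mk (g₁ ≫ t₁ ≫ Y.hom)
    let a₁ : W' ⟶ Over.mk (t₁ ≫ Y.hom) := Over.homMk g₁ rfl
    let a₂ : W' ⟶ Over.mk (t₂ ≫ Y.hom) := Over.homMk g₂ (by simp [W', reassoc_of% e])
    show (tot F).map a₁.left.op (pt _ _) = (tot F).map a₂.left.op (pt _ _)
    rw [map_pt, map_pt, hx a₁ a₂ (hmem t₁ h₁) (hmem t₂ h₂) (by ext; exact e)]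
  obtain ⟨e, he, huniq⟩ := hG R' hR x' hx'
  have hfst : e.1 = Y.hom := ((hB R' hR).isSeparatedFor).ext fun T t ht => congrArg Sigma.fst (he t ht)
  obtain ⟨y, rfl⟩ := exists_pt Y e hfst
  refine ⟨y, fun Z g hg => ?_, fun y' hy' => pt_injective Y (huniq _ fun T t ht => ?_)⟩
  · apply pt_injective Z
    rw [← map_pt]
    have hg' : R' g.left := (Sieve.overEquiv_iff R g.left).2 (by
      convert R.downward_closed hg (Over.homMk (𝟙 Z.left) : Over.mk (g.left ≫ Y.hom) ⟶ Z) using 1
      ext; simp)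
    rw [he g.left hg']
    let a : Z ⟶ Over.mk (g.left ≫ Y.hom) := Over.homMk (𝟙 Z.left)
    have h₂ := hx a (𝟙 Z) (hmem _ hg') hg (by ext; simp [a])
    rw [op_id, Functor.map_id_apply] at h₂
    rw [← h₂, ← map_pt]
    show pt _ _ = (tot F).map (𝟙 _) (pt _ _)
    rw [Functor.map_id_apply]
  · show (tot F).map (Over.homMk t : Over.mk (t ≫ Y.hom) ⟶ Y).left.op (pt Y y') = _
    rw [map_pt, hy' _ (hmem t ht)]

/-- If the presheaf on the slice is a sheaf then so is the total presheaf. -/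
theorem isSheaf_tot (K : GrothendieckTopology C) (hB : Presieve.IsSheaf K (yoneda.obj B))
    (hF : Presieve.IsSheaf (K.over B) F) : Presieve.IsSheaf K (tot F) := by
  intro T R hR x hx
  let x₁ : Presieve.FamilyOfElements (yoneda.obj B) R.arrows := fun U t ht => (x t ht).1
  have hx₁ : x₁.Compatible := fun _ _ _ g₁ g₂ _ _ h₁ h₂ e => congrArg Sigma.fst (hx g₁ g₂ h₁ h₂ e)
  obtain ⟨h, hh, hhu⟩ := hB R hR x₁ hx₁
  let Y : Over B := Over.mk h
  let RY := (Sieve.overEquiv Y).symm R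
  have hRY : RY ∈ (K.over B) Y := by
    rw [GrothendieckTopology.mem_over_iff, OrderIso.apply_symm_apply]
    exact hR
  have hpt : ∀ ⦃Z : Over B⦄ (g : Z ⟶ Y), RY g → ∀ hg : R g.left, ∃ z, pt Z z = x g.left hg := fun Z g _ hg =>
    exists_pt Z _ ((hh g.left hg).symm.trans (Over.w g))
  choose z hz using hpt
  let xY : Presieve.FamilyOfElements F RY.arrows := fun Z g hg => z g hg hg
  have hxY : xY.Compatible := fun Z₁ Z₂ W a₁ a₂ g₁ g₂ h₁ h₂ e => pt_injective W (by
    rw [← map_pt, ← map_pt, hz, hz]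
    exact hx a₁.left a₂.left _ _ (congrArg (fun k => k.left) e))
  obtain ⟨y, hy, hyu⟩ := hF RY hRY xY hxY
  have hval : ∀ ⦃U : C⦄ (t : U ⟶ T) (ht : R t), (tot F).map t.op (pt Y y) = x t ht := fun U t ht => by
    show (tot F).map (Over.homMk t : Over.mk (t ≫ h) ⟶ Y).left.op (pt Y y) = _
    rw [map_pt, hy (Over.homMk t : Over.mk (t ≫ h) ⟶ Y) ht, hz]
    rfl
  refine ⟨pt Y y, hval, fun e he => ?_⟩
  have hfst : e.1 = h := hhu _ fun U t ht => congrArg Sigma.fst (he t ht)
  obtain ⟨y', rfl⟩ := exists_pt Y e hfst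
  congr 1
  refine hyu y' fun Z g hg => pt_injective Z ?_
  rw [← map_pt, hz]
  exact he g.left hg

end Groth.Agent.AlgSpFpqc
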