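import Groth.Agent.AlgSpFpqc.Descent
import Groth.Agent.AlgSpFpqc.Sigma
import Mathlib.AlgebraicGeometry.Sites.Fpqc
import Mathlib.AlgebraicGeometry.Sites.SheafQuasiCompact

/-!
# Algebraic spaces are sheaves for the fpqc topology

The Zariski condition comes from the fppf topology and the condition for one faithfully flat morphism of affine
schemes from descent of morphisms into algebraic spaces.
-/

set_option autoImplicit false
set_option backward.isDefEq.respectTransparency false
set_option backward.isDefEq.respectTransparency.types false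
set_option maxHeartbeats 1000000

universe u

open CategoryTheory CategoryTheory.Limits AlgebraicGeometry Opposite AlgSp

namespace Groth.Agent.AlgSpFpqc

variable {S : Scheme.{u}} {X : Sp S}

theorem map_equiv {Y Y' : Over S} (g : Y' ⟶ Y) (a : (yon S).obj Y ⟶ X) :
    X.obj.map g.op ((J S).uliftYonedaEquiv a) = (J S).uliftYonedaEquiv ((yon S).map g ≫ a) :=
  (J S).uliftYonedaEquiv_naturality a g

theorem map_equiv_symm {Y Y' : Over S} (g : Y' ⟶ Y) (s : X.obj.obj (op Y)) :
    (yon S).map g ≫ (J S).uliftYonedaEquiv.symm s = (J S).uliftYonedaEquiv.symm (X.obj.map g.op s) := by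
  apply (J S).uliftYonedaEquiv.injective
  rw [← map_equiv, Equiv.apply_symm_apply, Equiv.apply_symm_apply]

/-- An algebraic space is a sheaf for the fpqc topology. -/
theorem isSheaf_fpqc (hX : IsAlgSpace X) : Presheaf.IsSheaf (Scheme.fpqcTopology.over S) X.obj := by
  rw [isSheaf_iff_isSheaf_of_type]
  refine isSheaf_over Scheme.fpqcTopology
    (GrothendieckTopology.Subcanonical.isSheaf_of_isRepresentable (yoneda.obj S)) ?_
  rw [Scheme.fpqcTopology_eq_propQCTopology, isSheaf_type_propQCTopology_iff]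
  have hJ : Presieve.IsSheaf (Scheme.fppfTopology.over S) X.obj :=
    (isSheaf_iff_isSheaf_of_type _ _).1 X.property
  refine ⟨Presieve.isSheaf_of_le _
    (Precoverage.toGrothendieck_mono Scheme.zariskiPrecoverage_le_fppfPrecoverage)
    (isSheaf_tot Scheme.fppfTopology
      (GrothendieckTopology.Subcanonical.isSheaf_of_isRepresentable (yoneda.obj S)) hJ), fun {R A} f hf hs => ?_⟩
  rw [Presieve.isSheafFor_singleton]
  intro x hx
  let h' : Spec A ⟶ S := x.1
  have hh' : ∀ {Z : Scheme.{u}} (g₁ g₂ : Z ⟶ Spec A), g₁ ≫ Spec.map f = g₂ ≫ Spec.map f → g₁ ≫ h' = g₂ ≫ h' :=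
    fun g₁ g₂ e => congrArg Sigma.fst (hx g₁ g₂ e)
  have : Flat (Spec.map f) := hf
  obtain ⟨h, hh⟩ : ∃ h, Spec.map f ≫ h = h' :=
    ⟨EffectiveEpi.desc (Spec.map f) h' (fun g₁ g₂ e => hh' g₁ g₂ e), EffectiveEpi.fac _ _ _⟩
  let Y : Over S := Over.mk h
  let Y' : Over S := Over.mk h'
  let p : Y' ⟶ Y := Over.homMk (Spec.map f) hh
  have : Flat p.left := hf
  have : Surjective p.left := hs
  have : QuasiCompact p.left := inferInstanceAs (QuasiCompact (Spec.map f))
  obtain ⟨s', hs'⟩ := exists_pt Y' x rfl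
  obtain ⟨a, ha⟩ := exists_desc p ((J S).uliftYonedaEquiv.symm s') (fun Z y₀ y₁ e => by
    rw [map_equiv_symm, map_equiv_symm]
    congr 1
    apply pt_injective Z
    rw [← map_pt, ← map_pt, hs']
    exact hx y₀.left y₁.left (congrArg (fun k => k.left) e)) hX
  refine ⟨pt Y ((J S).uliftYonedaEquiv a), ?_, fun e he => ?_⟩
  · show (tot X.obj).map p.left.op _ = x
    rw [map_pt, map_equiv, ha, Equiv.apply_symm_apply, hs']
  · have hfst : e.1 = Y.hom := (cancel_epi (Spec.map f)).1 ((congrArg Sigma.fst he).trans hh.symm)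
    obtain ⟨y, rfl⟩ := exists_pt Y e hfst
    change (tot X.obj).map p.left.op _ = x at he
    rw [map_pt, ← hs'] at he
    congr 1
    rw [← Equiv.symm_apply_eq]
    refine ext_of_fpqc hX p _ _ ?_
    rw [map_equiv_symm, pt_injective Y' he, ha]

end Groth.Agent.AlgSpFpqc
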